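import Cfsg.Agent.Helper71.BSW.DefsCT

/-!
# S3282 (abstract Brauer–Suzuki–Wall), piece (T5) for helper71 (helper82)

The trivial character has multiplicity `1` in `theta K μ` (`μ ≠ 1`), and
`theta K μ⁻¹ = theta K μ`.
-/

set_option autoImplicit false

namespace Cfsg.Agent.Helper82.BSW

open Cfsg Cfsg.Agent.Helper71.BSW
open scoped ComplexConjugate

/-- sum of a nontrivial linear character over the group vanishes -/
theorem sum_char_eq_zero {K : Type*} [Group K] [Fintype K] (μ : K →* ℂˣ) (hμ : μ ≠ 1) :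
    ∑ y : K, ((μ y : ℂˣ) : ℂ) = 0 := by
  classical
  obtain ⟨y₀, hy₀⟩ : ∃ y₀ : K, μ y₀ ≠ 1 := by
    by_contra hcon
    push Not at hcon
    exact hμ (MonoidHom.ext fun y => by simpa using hcon y)
  have h1 : ∑ y : K, ((μ y : ℂˣ) : ℂ) = ((μ y₀ : ℂˣ) : ℂ) * ∑ y : K, ((μ y : ℂˣ) : ℂ) := by
    rw [Finset.mul_sum]
    rw [← Equiv.sum_comp (Equiv.mulLeft y₀) (fun y => ((μ y : ℂˣ) : ℂ))]
    refine Finset.sum_congr rfl fun y _ => ?_
    simp [map_mul]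
  have h2 : (1 - ((μ y₀ : ℂˣ) : ℂ)) * ∑ y : K, ((μ y : ℂˣ) : ℂ) = 0 := by
    rw [sub_mul, one_mul, ← h1, sub_self]
  rcases mul_eq_zero.mp h2 with h3 | h3
  · exfalso
    apply hy₀
    apply Units.ext
    rw [Units.val_one]
    exact (sub_eq_zero.mp h3).symm
  · exact h3

theorem sum_char_inv_eq_zero {K : Type*} [Group K] [Fintype K] (μ : K →* ℂˣ) (hμ : μ ≠ 1) :
    ∑ y : K, ((μ y⁻¹ : ℂˣ) : ℂ) = 0 := by
  rw [← sum_char_eq_zero μ hμ]
  exact Equiv.sum_comp (Equiv.inv K) (fun y => ((μ y : ℂˣ) : ℂ))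

theorem t_coef_triv_inv {G : Type*} [Group G] [Fintype G] [Fintype (IrrCharacter G)] {t s : G} {K : Subgroup G}
    [Fintype ↥K] [Fintype (↥K →* ℂˣ)]
    (h : Hyp t s K)
    (h_theta_one : ∀ μ : K →* ℂˣ, theta K μ 1 = 0)
    (h_theta_conj : ∀ (μ : K →* ℂˣ) (g x : G), theta K μ (x * g * x⁻¹) = theta K μ g)
    (h_theta_mem : ∀ (μ : K →* ℂˣ) (y : K), (y : G) ≠ 1 →
    theta K μ (y : G) = 2 - ((μ y : ℂˣ) : ℂ) - ((μ y⁻¹ : ℂˣ) : ℂ))
    (h_theta_off : ∀ (μ : K →* ℂˣ) (g : G), (∀ x : G, x * g * x⁻¹ ∉ K) → theta K μ g = 0)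
    (h_sum_TI : ∀ F : G → ℂ, (∀ g x : G, F (x * g * x⁻¹) = F g) →
    (∀ g : G, (∀ x : G, x * g * x⁻¹ ∉ K) → F g = 0) →
    ∑ g : G, F g = F 1 + (Nat.card G : ℂ) / (2 * (Nat.card K : ℂ)) *
      ∑ y : K, (1 - ind (y : G) 1) * F (y : G))
    (h_sum_dual : ∀ y : K, y ≠ 1 → ∑ μ : K →* ℂˣ, ((μ y : ℂˣ) : ℂ) = 0)
    :
    (∀ (μ : K →* ℂˣ) (triv : IrrCharacter G), μ ≠ 1 → (∀ g, (triv : G → ℂ) g = 1) →
    coef K μ triv = 1) ∧
    (∀ (μ : K →* ℂˣ) (χ : IrrCharacter G), coef K μ⁻¹ χ = coef K μ χ) := by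
  classical
  have hG0 : (Nat.card G : ℂ) ≠ 0 := by exact_mod_cast Nat.card_pos.ne'
  have hK0 : (Nat.card K : ℂ) ≠ 0 := by exact_mod_cast Nat.card_pos.ne'
  refine ⟨?_, ?_⟩
  · intro μ triv hμ htriv
    unfold coef classInner
    have e1 : ∑ g : G, theta K μ g * conj ((triv : G → ℂ) g) = ∑ g : G, theta K μ g := by
      refine Finset.sum_congr rfl fun g _ => ?_
      rw [htriv g, map_one, mul_one]
    rw [e1, h_sum_TI (theta K μ) (h_theta_conj μ) (h_theta_off μ), h_theta_one μ, zero_add]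
    have e2 : ∑ y : K, (1 - ind (y : G) 1) * theta K μ (y : G)
        = ∑ y : K, (2 - ((μ y : ℂˣ) : ℂ) - ((μ y⁻¹ : ℂˣ) : ℂ)) := by
      refine Finset.sum_congr rfl fun y _ => ?_
      by_cases hy : (y : G) = 1
      · have hy' : y = 1 := Subtype.ext hy
        rw [ind_of_eq hy, sub_self, zero_mul, hy']
        simp
        norm_num
      · rw [ind_of_ne hy, sub_zero, one_mul, h_theta_mem μ y hy]
    rw [e2, Finset.sum_sub_distrib, Finset.sum_sub_distrib, sum_char_eq_zero μ hμ,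
      sum_char_inv_eq_zero μ hμ, sub_zero, sub_zero, Finset.sum_const, Finset.card_univ,
      ← Nat.card_eq_fintype_card, nsmul_eq_mul]
    field_simp
  · intro μ χ
    have hfun : theta K μ⁻¹ = theta K μ := by
      funext g
      by_cases hg : ∃ x : G, x * g * x⁻¹ ∈ K
      · obtain ⟨x, hx⟩ := hg
        rw [← h_theta_conj μ⁻¹ g x, ← h_theta_conj μ g x]
        by_cases h1 : x * g * x⁻¹ = 1
        · rw [h1, h_theta_one, h_theta_one]
        · have e1 := h_theta_mem μ⁻¹ ⟨x * g * x⁻¹, hx⟩ h1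
          have e2 := h_theta_mem μ ⟨x * g * x⁻¹, hx⟩ h1
          rw [e1, e2]
          simp only [MonoidHom.inv_apply, map_inv, inv_inv]
          ring
      · push Not at hg
        rw [h_theta_off μ⁻¹ g hg, h_theta_off μ g hg]
    unfold coef
    rw [hfun]

end Cfsg.Agent.Helper82.BSW
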