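import Cfsg.Agent.Helper71.BSW.DefsCT
import Cfsg.Agent.Helper79.ClassMult

/-!
# S3282 (abstract Brauer–Suzuki–Wall), piece (T6) for helper71 (helper82)

Values of every irreducible character on `K#` from its multiplicities in the `theta K μ`.
-/

set_option autoImplicit false

namespace Cfsg.Agent.Helper82.BSW

open Cfsg Cfsg.Agent.Helper71.BSW
open scoped ComplexConjugate

theorem sum_mul_ind_right {α : Type*} [Fintype α] (w : α → ℂ) (y : α) :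
    ∑ y' : α, w y' * ind y y' = w y := by
  classical
  rw [Finset.sum_eq_single y]
  · rw [ind_self, mul_one]
  · intro b _ hb
    rw [ind_of_ne (Ne.symm hb), mul_zero]
  · intro hy
    exact absurd (Finset.mem_univ y) hy

theorem sum_mul_ind_inv {α : Type*} [Group α] [Fintype α] (w : α → ℂ) (y : α) :
    ∑ y' : α, w y' * ind y y'⁻¹ = w y⁻¹ := by
  classical
  rw [Finset.sum_eq_single y⁻¹]
  · rw [inv_inv, ind_self, mul_one]
  · intro b _ hb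
    have : y ≠ b⁻¹ := by
      intro hyb
      apply hb
      rw [hyb, inv_inv]
    rw [ind_of_ne this, mul_zero]
  · intro hy
    exact absurd (Finset.mem_univ _) hy

theorem t_irr_apply_K {G : Type*} [Group G] [Fintype G] [Fintype (IrrCharacter G)] {t s : G} {K : Subgroup G}
    [Fintype ↥K] [Fintype (↥K →* ℂˣ)]
    (h : Hyp t s K) (A0 : FactsA0 t s K)
    (h_theta_one : ∀ μ : K →* ℂˣ, theta K μ 1 = 0)
    (h_theta_conj : ∀ (μ : K →* ℂˣ) (g x : G), theta K μ (x * g * x⁻¹) = theta K μ g)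
    (h_theta_mem : ∀ (μ : K →* ℂˣ) (y : K), (y : G) ≠ 1 →
    theta K μ (y : G) = 2 - ((μ y : ℂˣ) : ℂ) - ((μ y⁻¹ : ℂˣ) : ℂ))
    (h_theta_off : ∀ (μ : K →* ℂˣ) (g : G), (∀ x : G, x * g * x⁻¹ ∉ K) → theta K μ g = 0)
    (h_sum_TI : ∀ F : G → ℂ, (∀ g x : G, F (x * g * x⁻¹) = F g) →
    (∀ g : G, (∀ x : G, x * g * x⁻¹ ∉ K) → F g = 0) →
    ∑ g : G, F g = F 1 + (Nat.card G : ℂ) / (2 * (Nat.card K : ℂ)) *
      ∑ y : K, (1 - ind (y : G) 1) * F (y : G))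
    (h_col_dual : ∀ y y' : K, ∑ μ : K →* ℂˣ, ((μ y : ℂˣ) : ℂ) * ((μ y'⁻¹ : ℂˣ) : ℂ) =
      (Nat.card K : ℂ) * ind y y')
    (h_sum_dual : ∀ y : K, y ≠ 1 → ∑ μ : K →* ℂˣ, ((μ y : ℂˣ) : ℂ) = 0)
    (h_coef_int : ∀ (μ : K →* ℂˣ) (χ : IrrCharacter G), ∃ n : ℤ, coef K μ χ = (n : ℂ))
    :
    ∀ (χ : IrrCharacter G) (y : K), (y : G) ≠ 1 →
    (χ : G → ℂ) (y : G) = - ∑ μ : K →* ℂˣ, (1 - ind μ 1) * coef K μ χ * ((μ y : ℂˣ) : ℂ) := by
  classical
  intro χ y hy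
  have hG0 : (Nat.card G : ℂ) ≠ 0 := by exact_mod_cast Nat.card_pos.ne'
  have hK0 : (Nat.card K : ℂ) ≠ 0 := by exact_mod_cast Nat.card_pos.ne'
  have hχcl : ∀ g x : G, (χ : G → ℂ) (x * g * x⁻¹) = (χ : G → ℂ) g :=
    Cfsg.Agent.Helper79.irr_isClassFunction χ
  -- weights
  set w : K → ℂ := fun y' => (1 - ind (y' : G) 1) * conj ((χ : G → ℂ) (y' : G)) with hw
  -- formula for the multiplicities
  have hcoef : ∀ μ : K →* ℂˣ, coef K μ χ = (2 * (Nat.card K : ℂ))⁻¹ *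
      ∑ y' : K, w y' * (2 - ((μ y' : ℂˣ) : ℂ) - ((μ y'⁻¹ : ℂˣ) : ℂ)) := by
    intro μ
    unfold coef classInner
    rw [h_sum_TI (fun g => theta K μ g * conj ((χ : G → ℂ) g))
      (fun g x => by
        show theta K μ (x * g * x⁻¹) * conj ((χ : G → ℂ) (x * g * x⁻¹)) = _
        rw [h_theta_conj μ g x, hχcl g x])
      (fun g hg => by
        show theta K μ g * conj ((χ : G → ℂ) g) = 0
        rw [h_theta_off μ g hg, zero_mul])]
    have e0 : theta K μ 1 * conj ((χ : G → ℂ) 1) = 0 := by rw [h_theta_one μ, zero_mul]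
    have e2 : ∑ y' : K, (1 - ind (y' : G) 1) * (theta K μ (y' : G) * conj ((χ : G → ℂ) (y' : G)))
        = ∑ y' : K, w y' * (2 - ((μ y' : ℂˣ) : ℂ) - ((μ y'⁻¹ : ℂˣ) : ℂ)) := by
      refine Finset.sum_congr rfl fun y' _ => ?_
      by_cases hy' : (y' : G) = 1
      · simp only [hw]
        rw [ind_of_eq hy', sub_self, zero_mul, zero_mul, zero_mul]
      · simp only [hw]
        rw [h_theta_mem μ y' hy']
        ring
    show (Nat.card G : ℂ)⁻¹ * (theta K μ 1 * conj ((χ : G → ℂ) 1) +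
      (Nat.card G : ℂ) / (2 * (Nat.card K : ℂ)) *
      ∑ y' : K, (1 - ind (y' : G) 1) * (theta K μ (y' : G) * conj ((χ : G → ℂ) (y' : G)))) = _
    rw [e0, e2, zero_add]
    field_simp
  -- the multiplicity for the trivial character of K vanishes
  have hcoef1 : coef K (1 : K →* ℂˣ) χ = 0 := by
    rw [hcoef 1]
    have : ∑ y' : K, w y' * (2 - (((1 : K →* ℂˣ) y' : ℂˣ) : ℂ) - (((1 : K →* ℂˣ) y'⁻¹ : ℂˣ) : ℂ)) = 0 := by
      refine Finset.sum_eq_zero fun y' _ => ?_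
      simp only [MonoidHom.one_apply, Units.val_one]
      ring
    rw [this, mul_zero]
  -- remove the factor `1 - ind μ 1`
  have e1 : ∑ μ : K →* ℂˣ, (1 - ind μ 1) * coef K μ χ * ((μ y : ℂˣ) : ℂ)
      = ∑ μ : K →* ℂˣ, coef K μ χ * ((μ y : ℂˣ) : ℂ) := by
    refine Finset.sum_congr rfl fun μ _ => ?_
    by_cases hμ : μ = 1
    · rw [hμ, hcoef1]; ring
    · rw [ind_of_ne hμ, sub_zero, one_mul]
  rw [e1]
  -- insert the formula and exchange the sums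
  have e2 : ∑ μ : K →* ℂˣ, coef K μ χ * ((μ y : ℂˣ) : ℂ)
      = (2 * (Nat.card K : ℂ))⁻¹ * ∑ y' : K, w y' *
        ∑ μ : K →* ℂˣ, (2 * ((μ y : ℂˣ) : ℂ) - ((μ y : ℂˣ) : ℂ) * ((μ y' : ℂˣ) : ℂ)
          - ((μ y : ℂˣ) : ℂ) * ((μ y'⁻¹ : ℂˣ) : ℂ)) := by
    have : ∀ μ : K →* ℂˣ, coef K μ χ * ((μ y : ℂˣ) : ℂ) = (2 * (Nat.card K : ℂ))⁻¹ *
        ∑ y' : K, w y' * (2 * ((μ y : ℂˣ) : ℂ) - ((μ y : ℂˣ) : ℂ) * ((μ y' : ℂˣ) : ℂ)
          - ((μ y : ℂˣ) : ℂ) * ((μ y'⁻¹ : ℂˣ) : ℂ)) := by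
      intro μ
      rw [hcoef μ, mul_assoc, Finset.sum_mul]
      congr 1
      refine Finset.sum_congr rfl fun y' _ => ?_
      ring
    rw [Finset.sum_congr rfl fun μ _ => this μ, ← Finset.mul_sum, Finset.sum_comm]
    congr 1
    refine Finset.sum_congr rfl fun y' _ => ?_
    rw [Finset.mul_sum]
  rw [e2]
  -- orthogonality in the dual group
  have hy1 : y ≠ 1 := fun hy1 => hy (by rw [hy1]; rfl)
  have e3 : ∀ y' : K, ∑ μ : K →* ℂˣ, (2 * ((μ y : ℂˣ) : ℂ) - ((μ y : ℂˣ) : ℂ) * ((μ y' : ℂˣ) : ℂ)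
          - ((μ y : ℂˣ) : ℂ) * ((μ y'⁻¹ : ℂˣ) : ℂ))
      = - (Nat.card K : ℂ) * (ind y y'⁻¹ + ind y y') := by
    intro y'
    rw [Finset.sum_sub_distrib, Finset.sum_sub_distrib, ← Finset.mul_sum, h_sum_dual y hy1,
      h_col_dual y y']
    have := h_col_dual y y'⁻¹
    rw [inv_inv] at this
    rw [this]
    ring
  rw [Finset.sum_congr rfl fun y' _ => by rw [e3 y']]
  have e4 : ∑ y' : K, w y' * (-(Nat.card K : ℂ) * (ind y y'⁻¹ + ind y y'))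
      = -(Nat.card K : ℂ) * (w y⁻¹ + w y) := by
    have : ∀ y' : K, w y' * (-(Nat.card K : ℂ) * (ind y y'⁻¹ + ind y y'))
        = -(Nat.card K : ℂ) * (w y' * ind y y'⁻¹ + w y' * ind y y') := fun y' => by ring
    rw [Finset.sum_congr rfl fun y' _ => this y', ← Finset.mul_sum, Finset.sum_add_distrib,
      sum_mul_ind_inv, sum_mul_ind_right]
  rw [e4]
  -- evaluate the weights
  have hyinv : ((y⁻¹ : K) : G) ≠ 1 := by
    intro hcon
    apply hy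
    have : (y⁻¹ : K) = 1 := Subtype.ext hcon
    rw [inv_eq_one] at this
    rw [this]; rfl
  have hwy : w y = conj ((χ : G → ℂ) (y : G)) := by
    simp only [hw]
    rw [ind_of_ne hy, sub_zero, one_mul]
  have hwyinv : w y⁻¹ = conj ((χ : G → ℂ) ((y⁻¹ : K) : G)) := by
    simp only [hw]
    rw [ind_of_ne hyinv, sub_zero, one_mul]
  rw [hwy, hwyinv]
  have hc1 : conj ((χ : G → ℂ) ((y⁻¹ : K) : G)) = (χ : G → ℂ) (y : G) := by
    have : ((y⁻¹ : K) : G) = (y : G)⁻¹ := rfl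
    rw [this, Cfsg.Agent.Helper79.irr_inv χ (y : G), Complex.conj_conj]
  have hc2 : conj ((χ : G → ℂ) (y : G)) = (χ : G → ℂ) (y : G) := by
    rw [← Cfsg.Agent.Helper79.irr_inv χ (y : G), ← h.hinv (y : G) y.2, hχcl]
  rw [hc1, hc2]
  field_simp
  ring
end Cfsg.Agent.Helper82.BSW
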